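/-
Counting the unitary elements of a finite ring with involution over a quadratic extension.
-/
import Mathlib
import Cfsg.Agent.Lib.InvolutionNorm

set_option autoImplicit false
set_option linter.unusedSectionVars false

namespace Cfsg.Agent.Lib.UnitaryCentralizer52

universe u v

/-- An anti-automorphism of order two of a ring, nontrivial on a central element. -/
structure StarData (L : Type u) [Ring L] where
  st : L → L
  st_add : ∀ a b, st (a + b) = st a + st b
  st_mul : ∀ a b, st (a * b) = st b * st a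
  st_st : ∀ a, st (st a) = a
  θ : L
  θ_comm : ∀ a, θ * a = a * θ
  θ_unit : IsUnit (st θ - θ)
  c : L
  c_comm : ∀ a, c * a = a * c
  c_trace : c + st c = 1

namespace StarData

variable {L : Type u} [Ring L] [Finite L] (D : StarData L)

theorem st_one : D.st 1 = 1 := by
  have h := D.st_mul 1 (D.st 1)
  rw [one_mul, D.st_st, one_mul] at h
  exact h.symm

theorem st_zero : D.st 0 = 0 := by
  have h := D.st_add 0 0
  rw [add_zero] at h
  exact left_eq_add.1 h

theorem st_neg (a : L) : D.st (-a) = -D.st a :=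
  eq_neg_of_add_eq_zero_right (by rw [← D.st_add, add_neg_cancel, D.st_zero])

theorem st_sub (a b : L) : D.st (a - b) = D.st a - D.st b := by
  rw [sub_eq_add_neg, D.st_add, D.st_neg, ← sub_eq_add_neg]

theorem st_θ_comm (a : L) : D.st D.θ * a = a * D.st D.θ := by
  have h := congrArg D.st (D.θ_comm (D.st a))
  rw [D.st_mul, D.st_mul, D.st_st] at h
  exact h.symm

/-- The involution on units. -/
def stU (g : Lˣ) : Lˣ where
  val := D.st g
  inv := D.st ((g⁻¹ : Lˣ) : L)
  val_inv := by rw [← D.st_mul, g.inv_mul, D.st_one]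
  inv_val := by rw [← D.st_mul, g.mul_inv, D.st_one]

theorem stU_mul (g h : Lˣ) : D.stU (g * h) = D.stU h * D.stU g := Units.ext (D.st_mul _ _)

theorem stU_stU (g : Lˣ) : D.stU (D.stU g) = g := Units.ext (D.st_st _)

theorem stU_inv (g : Lˣ) : D.stU g⁻¹ = (D.stU g)⁻¹ := Units.ext rfl

/-- An element of a subring of a finite ring which is a unit is a unit of the subring. -/
theorem isUnit_of_isUnit {A : Subring L} (a : A) (h : IsUnit (a : L)) : IsUnit a := by
  have hinj : Function.Injective (fun b : A => a * b) := fun b b' e =>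
    Subtype.ext (h.mul_left_cancel (congrArg Subtype.val e))
  obtain ⟨b, hb⟩ := (Finite.injective_iff_surjective.1 hinj) 1
  exact IsUnit.of_mul_eq_one b hb

/-- The norm is onto the fixed units. -/
theorem exists_norm_eq (x : Lˣ) (hx : D.stU x = x) : ∃ g : Lˣ, D.stU g * g = x := by
  classical
  set s : Set L := {(x : L), D.θ, D.st D.θ}
  let A := Subring.closure s
  have hxs : D.st (x : L) = x := congrArg Units.val hx
  letI : CommRing A := Subring.closureCommRingOfComm (by
    rintro a ha b hb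
    simp only [s, Set.mem_insert_iff, Set.mem_singleton_iff] at ha hb
    rcases ha with rfl | rfl | rfl
    · rcases hb with rfl | rfl | rfl
      · rfl
      · exact (D.θ_comm _).symm
      · exact (D.st_θ_comm _).symm
    · exact D.θ_comm b
    · exact D.st_θ_comm b)
  have hA : ∀ a ∈ A, D.st a ∈ A := by
    intro a ha
    induction ha using Subring.closure_induction with
    | mem y hy =>
      simp only [s, Set.mem_insert_iff, Set.mem_singleton_iff] at hy
      rcases hy with rfl | rfl | rfl
      · rw [hxs]; exact Subring.subset_closure (by simp [s])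
      · exact Subring.subset_closure (by simp [s])
      · rw [D.st_st]; exact Subring.subset_closure (by simp [s])
    | zero => rw [D.st_zero]; exact zero_mem _
    | one => rw [D.st_one]; exact one_mem _
    | add a b _ _ ha hb => rw [D.st_add]; exact add_mem ha hb
    | neg a _ ha => rw [D.st_neg]; exact neg_mem ha
    | mul a b _ _ ha hb => rw [D.st_mul]; exact mul_mem hb ha
  let τ : A →+* A :=
    { toFun := fun a => ⟨D.st a, hA a a.2⟩
      map_one' := Subtype.ext D.st_one
      map_mul' := fun a b => Subtype.ext (by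
        show D.st ((a : L) * b) = D.st a * D.st b
        rw [D.st_mul]
        exact congrArg Subtype.val (mul_comm (⟨D.st b, hA b b.2⟩ : A) ⟨D.st a, hA a a.2⟩))
      map_zero' := Subtype.ext D.st_zero
      map_add' := fun a b => Subtype.ext (D.st_add _ _) }
  have hττ : ∀ a, τ (τ a) = a := fun a => Subtype.ext (D.st_st _)
  have hθA : D.θ ∈ A := Subring.subset_closure (by simp [s])
  have hθu : IsUnit (τ ⟨D.θ, hθA⟩ - ⟨D.θ, hθA⟩) := isUnit_of_isUnit _ D.θ_unit
  let T : Aˣ →* Aˣ := Units.map τ.toMonoidHom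
  have hTT : ∀ a, T (T a) = a := fun a => Units.ext (hττ _)
  let Nm : Aˣ →* Aˣ :=
    { toFun := fun g => T g * g
      map_one' := by rw [map_one, one_mul]
      map_mul' := fun g h => by rw [map_mul]; exact mul_mul_mul_comm _ _ _ _ }
  let ψ : Aˣ →* Aˣ :=
    { toFun := fun g => g * (T g)⁻¹
      map_one' := by rw [map_one, inv_one, one_mul]
      map_mul' := fun g h => by rw [map_mul, mul_inv]; exact mul_mul_mul_comm _ _ _ _ }
  have hker : Nm.ker ≤ ψ.range := fun g hg => by
    have hg' : (g : A) * τ g = 1 := by rw [mul_comm]; exact congrArg Units.val hg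
    obtain ⟨b, hb, hbe⟩ := InvolutionNorm.exists_unit_of_norm_one τ hττ hθu hg'
    refine ⟨hb.unit, ?_⟩
    show hb.unit * (T hb.unit)⁻¹ = g
    rw [mul_inv_eq_iff_eq_mul]
    exact Units.ext hbe.symm
  have himg : Nm.range ≤ ψ.ker := by
    rintro _ ⟨g, rfl⟩
    show (T g * g) * (T (T g * g))⁻¹ = 1
    rw [map_mul, hTT, mul_comm g, mul_inv_cancel]
  have heq : Nm.range = ψ.ker := Subgroup.eq_of_le_of_card_ge himg (by
    have h1 := Nm.ker.card_mul_index
    have h2 := ψ.ker.card_mul_index
    rw [Subgroup.index_ker] at h1 h2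
    have h3 := Subgroup.card_le_of_le hker
    have h4 : 0 < Nat.card Nm.range := Nat.card_pos
    have h5 : 0 < Nat.card ψ.range := Nat.card_pos
    rw [← h1] at h2
    nlinarith)
  have hxA : (x : L) ∈ A := Subring.subset_closure (by simp [s])
  let xA : Aˣ := (isUnit_of_isUnit (⟨x, hxA⟩ : A) x.isUnit).unit
  have hxker : xA ∈ ψ.ker := by
    show xA * (T xA)⁻¹ = 1
    rw [show T xA = xA from Units.ext (Subtype.ext hxs), mul_inv_cancel]
  rw [← heq] at hxker
  obtain ⟨g, hg⟩ := hxker
  refine ⟨Units.map A.subtype.toMonoidHom g, Units.ext ?_⟩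
  exact congrArg (fun z : Aˣ => ((z : A) : L)) hg

/-- The unitary elements. -/
abbrev Unit' := {g : L // D.st g * g = 1}

/-- The hermitian units. -/
abbrev HermUnit := {x : L // IsUnit x ∧ D.st x = x}

theorem card_units : Nat.card {g : L // IsUnit g} = Nat.card D.Unit' * Nat.card D.HermUnit := by
  classical
  rw [← Nat.card_prod]
  choose s hs using fun x : {x : Lˣ // D.stU x = x} => D.exists_norm_eq x.1 x.2
  have hn : ∀ g : Lˣ, D.stU (D.stU g * g) = D.stU g * g := fun g => by rw [D.stU_mul, D.stU_stU]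
  let e0 : Lˣ ≃ {g : Lˣ // D.stU g * g = 1} × {x : Lˣ // D.stU x = x} :=
    { toFun := fun g => (⟨g * (s ⟨_, hn g⟩)⁻¹, by
        have h := hs ⟨_, hn g⟩
        generalize s ⟨_, hn g⟩ = w at h ⊢
        rw [D.stU_mul, D.stU_inv, mul_assoc, ← mul_assoc (D.stU g), show D.stU g * g = D.stU w * w from h.symm]
        group⟩, ⟨_, hn g⟩)
      invFun := fun z => z.1.1 * s z.2
      left_inv := fun g => inv_mul_cancel_right _ _
      right_inv := fun z => by
        have hx : D.stU (z.1.1 * s z.2) * (z.1.1 * s z.2) = z.2.1 := by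
          rw [D.stU_mul, mul_assoc, ← mul_assoc (D.stU z.1.1), z.1.2, one_mul, hs]
        have h2 : (⟨_, hn (z.1.1 * s z.2)⟩ : {x : Lˣ // D.stU x = x}) = z.2 := Subtype.ext hx
        refine Prod.ext (Subtype.ext ?_) h2
        show z.1.1 * s z.2 * (s ⟨_, hn (z.1.1 * s z.2)⟩)⁻¹ = z.1.1
        rw [h2, mul_inv_cancel_right] }
  refine Nat.card_congr ((Equiv.ofBijective (fun g : Lˣ => (⟨(g : L), g.isUnit⟩ : {g : L // IsUnit g}))
    ⟨fun a b h => Units.ext (congrArg Subtype.val h), fun g => ⟨g.2.unit, rfl⟩⟩).symm.trans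
    (e0.trans (Equiv.prodCongr ?_ ?_)))
  · exact Equiv.ofBijective (fun g => (⟨(g.1 : L), congrArg Units.val g.2⟩ : D.Unit'))
      ⟨fun a b h => Subtype.ext (Units.ext (congrArg Subtype.val h)), fun g =>
        ⟨⟨(IsUnit.of_mul_eq_one_right _ g.2).unit, Units.ext g.2⟩, rfl⟩⟩
  · exact Equiv.ofBijective (fun g => (⟨(g.1 : L), g.1.isUnit, congrArg Units.val g.2⟩ : D.HermUnit))
      ⟨fun a b h => Subtype.ext (Units.ext (congrArg Subtype.val h)), fun g =>
        ⟨⟨g.2.1.unit, Units.ext g.2.2⟩, rfl⟩⟩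

/-- Counting through a quotient that reflects units. -/
theorem card_unitary_of_quotient {Q : Type v} [Ring Q] [Finite Q] (E : StarData Q) (π : L →+* Q)
    (hπ : Function.Surjective π) (hst : ∀ a, π (D.st a) = E.st (π a)) (hu : ∀ a, IsUnit a ↔ IsUnit (π a)) :
    ∃ h : ℕ, Nat.card D.Unit' = h * Nat.card E.Unit' ∧
      Nat.card {g : L // IsUnit g} = h ^ 2 * Nat.card {g : Q // IsUnit g} := by
  classical
  choose s hs using hπ
  let HK := {a : L // π a = 0 ∧ D.st a = a}
  let w : Q → L := fun y => D.c * s y + D.st (D.c * s y)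
  have hw : ∀ y, E.st y = y → π (w y) = y := fun y hy => by
    show π (D.c * s y + D.st (D.c * s y)) = y
    rw [map_add, D.st_mul, map_mul, map_mul, hst, hs, hy]
    have hc : π (D.st D.c) * y = y * π (D.st D.c) := by
      rw [show D.st D.c = 1 - D.c from eq_sub_of_add_eq' D.c_trace, map_sub, map_one, sub_mul, mul_sub,
        one_mul, mul_one]
      congr 1
      rw [← hs y, ← map_mul, ← map_mul, D.c_comm]
    rw [← hc, ← add_mul, ← map_add, D.c_trace, map_one, one_mul]
  have hwst : ∀ y, D.st (w y) = w y := fun y => by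
    show D.st (D.c * s y + D.st (D.c * s y)) = _
    rw [D.st_add, D.st_st, add_comm]
  have eH : Nat.card D.HermUnit = Nat.card HK * Nat.card E.HermUnit := by
    rw [← Nat.card_prod]
    exact Nat.card_congr
      { toFun := fun x => (⟨x.1 - w (π x.1), by
            rw [map_sub, hw _ (by rw [← hst, x.2.2]), sub_self], by rw [D.st_sub, x.2.2, hwst]⟩,
          ⟨π x.1, (hu _).1 x.2.1, by rw [← hst, x.2.2]⟩)
        invFun := fun z => ⟨z.1.1 + w z.2.1, by
            rw [hu, map_add, z.1.2.1, zero_add, hw _ z.2.2.2]; exact z.2.2.1,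
          by rw [D.st_add, z.1.2.2, hwst]⟩
        left_inv := fun x => Subtype.ext (sub_add_cancel _ _)
        right_inv := fun z => by
          have h : π (z.1.1 + w z.2.1) = z.2.1 := by rw [map_add, z.1.2.1, zero_add, hw _ z.2.2.2]
          refine Prod.ext (Subtype.ext ?_) (Subtype.ext h)
          show z.1.1 + w z.2.1 - w (π (z.1.1 + w z.2.1)) = z.1.1
          rw [h, add_sub_cancel_right] }
  have eU : Nat.card {g : L // IsUnit g} = Nat.card {a : L // π a = 0} * Nat.card {g : Q // IsUnit g} := by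
    rw [← Nat.card_prod]
    exact Nat.card_congr
      { toFun := fun x => (⟨x.1 - s (π x.1), by rw [map_sub, hs, sub_self]⟩, ⟨π x.1, (hu _).1 x.2⟩)
        invFun := fun z => ⟨z.1.1 + s z.2.1, by rw [hu, map_add, z.1.2, zero_add, hs]; exact z.2.2⟩
        left_inv := fun x => Subtype.ext (sub_add_cancel _ _)
        right_inv := fun z => by
          have h : π (z.1.1 + s z.2.1) = z.2.1 := by rw [map_add, z.1.2, zero_add, hs]
          refine Prod.ext (Subtype.ext ?_) (Subtype.ext h)
          show z.1.1 + s z.2.1 - s (π (z.1.1 + s z.2.1)) = z.1.1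
          rw [h, add_sub_cancel_right] }
  have eK : Nat.card {a : L // π a = 0} = Nat.card HK ^ 2 := by
    rw [sq, ← Nat.card_prod]
    refine (Nat.card_eq_of_bijective (fun z : HK × HK =>
      (⟨z.1.1 + D.θ * z.2.1, by rw [map_add, map_mul, z.1.2.1, z.2.2.1, mul_zero, add_zero]⟩ :
        {a : L // π a = 0})) ⟨?_, ?_⟩).symm
    · intro z z' h
      have h1 : z.1.1 + D.θ * z.2.1 = z'.1.1 + D.θ * z'.2.1 := congrArg Subtype.val h
      have h2 := congrArg D.st h1
      rw [D.st_add, D.st_add, D.st_mul, D.st_mul, z.1.2.2, z.2.2.2, z'.1.2.2, z'.2.2.2,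
        ← D.st_θ_comm, ← D.st_θ_comm] at h2
      have h3 : (D.st D.θ - D.θ) * z.2.1 = (D.st D.θ - D.θ) * z'.2.1 := by
        rw [sub_mul, sub_mul]
        calc D.st D.θ * z.2.1 - D.θ * z.2.1
            = (z.1.1 + D.st D.θ * z.2.1) - (z.1.1 + D.θ * z.2.1) := by abel
          _ = _ := by rw [h2, h1]; abel
      have h4 : z.2 = z'.2 := Subtype.ext (D.θ_unit.mul_left_cancel h3)
      refine Prod.ext (Subtype.ext ?_) h4
      rw [h4] at h1
      exact add_right_cancel h1
    · rintro ⟨x, hx⟩
      set δ := D.θ_unit.unit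
      set b := ((δ⁻¹ : Lˣ) : L) * (D.st x - x) with hb
      have hδ : ∀ a, ((δ⁻¹ : Lˣ) : L) * a = a * ((δ⁻¹ : Lˣ) : L) := fun a =>
        (Commute.units_inv_left (show Commute ((δ : Lˣ) : L) a from by
          show (D.st D.θ - D.θ) * a = a * (D.st D.θ - D.θ)
          rw [sub_mul, mul_sub, D.st_θ_comm, D.θ_comm])).eq
      have hπx : π (D.st x) = 0 := by rw [hst, hx, E.st_zero]
      have hbst : D.st b = b := by
        have h5 : D.stU δ = -δ := Units.ext (by
          show D.st (D.st D.θ - D.θ) = -(D.st D.θ - D.θ)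
          rw [D.st_sub, D.st_st, neg_sub])
        have h6 : D.st ((δ⁻¹ : Lˣ) : L) = -((δ⁻¹ : Lˣ) : L) := by
          show ((D.stU δ⁻¹ : Lˣ) : L) = _
          rw [D.stU_inv, h5, inv_neg, Units.val_neg]
        rw [hb, D.st_mul, D.st_sub, D.st_st, h6, hδ, mul_neg, ← neg_mul, neg_sub]
      have hbK : π b = 0 := by rw [hb, map_mul, map_sub, hπx, hx, sub_zero, mul_zero]
      have hsum : D.st D.θ * b = D.θ * b + (D.st x - x) := by
        have : (D.st D.θ - D.θ) * b = D.st x - x := by
          rw [hb, ← mul_assoc]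
          show ((δ : Lˣ) : L) * ((δ⁻¹ : Lˣ) : L) * _ = _
          rw [Units.mul_inv, one_mul]
        rw [← this, sub_mul]; abel
      refine ⟨(⟨x - D.θ * b, by rw [map_sub, map_mul, hbK, hx, mul_zero, sub_zero], ?_⟩,
        ⟨b, hbK, hbst⟩), Subtype.ext (sub_add_cancel _ _)⟩
      rw [D.st_sub, D.st_mul, hbst, ← D.st_θ_comm, hsum]
      abel
  refine ⟨Nat.card HK, ?_, by rw [eU, eK]⟩
  have h1 := D.card_units
  have h2 := E.card_units
  rw [eU, eK, h2, eH] at h1
  haveI : Nonempty E.HermUnit := ⟨⟨1, isUnit_one, E.st_one⟩⟩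
  haveI : Nonempty HK := ⟨⟨0, map_zero π, D.st_zero⟩⟩
  have hp : 0 < Nat.card HK * Nat.card E.HermUnit := Nat.mul_pos Nat.card_pos Nat.card_pos
  exact Nat.eq_of_mul_eq_mul_right hp (by rw [← h1]; ring)

end StarData

end Cfsg.Agent.Lib.UnitaryCentralizer52
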