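/-
A unitary unipotent element of prescribed Jordan type, with its centraliser algebra.
-/
import Cfsg.Agent.Lib.UnitaryCentralizer52.Abstract
import Cfsg.Agent.Lib.JordanType.Centralizer
import Cfsg.Agent.Lib.RegularUnipotentSU52
import Cfsg.Agent.Lib.Unitary.Order

set_option autoImplicit false
set_option linter.unusedSectionVars false

namespace Cfsg.Agent.Lib.UnitaryCentralizer52

open Matrix Module
open Cfsg.Agent.Lib.RegularUnipotentMatrix (IsRegUnip shift)

universe u

/-! ### Conjugate transposes -/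

section St

variable {K : Type u} [Field K] [Fintype K] {q : ℕ} (hK : Fintype.card K = q ^ 2) {ι : Type*}

/-- The conjugate transpose. -/
def stM (M : Matrix ι ι K) : Matrix ι ι K := (M.map (Unitary.conj hK))ᵀ

theorem stM_apply (M : Matrix ι ι K) (i j : ι) : stM hK M i j = M j i ^ q := rfl

theorem stM_stM (M : Matrix ι ι K) : stM hK (stM hK M) = M := by
  ext i j
  exact Unitary.pow_q_q hK _

theorem stM_add (M N : Matrix ι ι K) : stM hK (M + N) = stM hK M + stM hK N := by
  ext i j
  exact Unitary.add_pow_q hK _ _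

theorem stM_sub (M N : Matrix ι ι K) : stM hK (M - N) = stM hK M - stM hK N := by
  ext i j
  exact Unitary.sub_pow_q hK _ _

theorem stM_mul [Fintype ι] (M N : Matrix ι ι K) : stM hK (M * N) = stM hK N * stM hK M := by
  rw [stM, Matrix.map_mul, Matrix.transpose_mul]; rfl

theorem stM_one [DecidableEq ι] : stM hK (1 : Matrix ι ι K) = 1 := by
  rw [stM, Matrix.map_one _ (map_zero _) (map_one _), Matrix.transpose_one]

theorem stM_smul_one [DecidableEq ι] (a : K) : stM hK (a • (1 : Matrix ι ι K)) = a ^ q • 1 := by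
  ext i j
  rw [stM_apply]
  by_cases h : i = j
  · subst h; simp
  · simp [h, Ne.symm h, Unitary.zero_pow_q hK]

theorem stM_pow [Fintype ι] [DecidableEq ι] (M : Matrix ι ι K) : ∀ k, stM hK (M ^ k) = stM hK M ^ k
  | 0 => by rw [pow_zero, pow_zero, stM_one]
  | k + 1 => by rw [pow_succ', pow_succ, stM_mul, stM_pow M k]

theorem stM_submatrix {ι' : Type*} (M : Matrix ι ι K) (e : ι' → ι) :
    stM hK (M.submatrix e e) = (stM hK M).submatrix e e := rfl

theorem mem_GU_iff_stM {n : ℕ} (X : GL (Fin n) K) :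
    X ∈ Cfsg.GU n K q ↔ stM hK (X : Matrix (Fin n) (Fin n) K) * X = 1 := by
  refine ⟨fun hX => RegularUnipotentSU52.conjTranspose_mul hK hX, fun hX u v => ?_⟩
  simp only [Units.coeHom_apply]
  set σ := Unitary.conj hK
  have e1 : ∀ a b : Fin n → K, Cfsg.hermForm n K q a b = a ⬝ᵥ (σ ∘ b) := fun a b => rfl
  have e3 : (X : Matrix (Fin n) (Fin n) K)ᵀ * (X : Matrix (Fin n) (Fin n) K).map σ = 1 := by
    have h2 := congrArg Matrix.transpose hX
    rw [Matrix.transpose_mul, Matrix.transpose_one, stM, Matrix.transpose_transpose] at h2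
    exact h2
  rw [e1, e1, show σ ∘ ((X : Matrix (Fin n) (Fin n) K).mulVec v) = ((X : Matrix (Fin n) (Fin n) K).map σ).mulVec (σ ∘ v) from funext fun k => RingHom.map_mulVec σ _ _ k, ← Matrix.vecMul_transpose, ← Matrix.dotProduct_mulVec,
    Matrix.mulVec_mulVec, e3, Matrix.one_mulVec]

include hK in
theorem exists_star_scalars :
    ∃ θ c : K, θ ^ q - θ ≠ 0 ∧ c + c ^ q = 1 := by
  obtain ⟨c, hc⟩ := Unitary.trace_surj hK (y := 1) (one_pow q)
  by_contra! hcon
  have h : ∀ x : K, x ^ q = x := fun x => by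
    by_contra hx
    exact hcon x c (sub_ne_zero.2 hx) hc
  have h1 := Unitary.card_fixed hK
  rw [Nat.card_congr (Equiv.subtypeUnivEquiv h), Nat.card_eq_fintype_card, hK, sq] at h1
  have h3 := Unitary.one_lt_q hK
  nlinarith

end St

/-! ### Corner entries -/

theorem jordanBlock_eq_one_add_shift (K : Type u) [Field K] (i : ℕ) :
    Cfsg.jordanBlock i K = 1 + shift K i := by
  ext a b
  rw [Cfsg.jordanBlock, Matrix.of_apply, Matrix.add_apply, Matrix.one_apply, shift, Matrix.of_apply]
  by_cases h : a = b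
  · subst h; simp
  · rw [if_neg (fun h' => h (Fin.ext h')), if_neg h, zero_add]

/-- An element commuting with a Jordan block has its only eigenvalue in the corner. -/
theorem corner_eq {K : Type u} [Field K] {i : ℕ} {b : Matrix (Fin (i + 1)) (Fin (i + 1)) K}
    (hb : Commute b (Cfsg.jordanBlock (i + 1) K)) {a : K} (ha : IsNilpotent (b - a • 1)) :
    b 0 0 = a := by
  classical
  set m := b - a • 1 with hm
  have hms : Commute m (shift K (i + 1)) := by
    rw [jordanBlock_eq_one_add_shift] at hb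
    have h1 : Commute b (shift K (i + 1)) := by
      simpa using hb.sub_right (Commute.one_right b)
    exact h1.sub_left ((Commute.one_left _).smul_left a)
  have hrow : ∀ j : Fin (i + 1), j ≠ 0 → m 0 j = 0 := by
    intro j hj
    have hj1 : (j : ℕ) ≠ 0 := fun h => hj (Fin.ext h)
    have h := congrFun (congrFun hms.eq 0) ⟨(j : ℕ) - 1, by omega⟩
    rw [Matrix.mul_apply, Matrix.mul_apply, Finset.sum_eq_single j, Finset.sum_eq_zero] at h
    · simp only [shift, Matrix.of_apply] at h
      rwa [if_pos (show (j : ℕ) = (j : ℕ) - 1 + 1 by omega), mul_one] at h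
    · intro x _
      simp only [shift, Matrix.of_apply]
      rw [if_neg (by simp), zero_mul]
    · intro x _ hx
      simp only [shift, Matrix.of_apply]
      rw [if_neg, mul_zero]
      intro h'
      exact hx (Fin.ext (by omega))
    · simp
  have hpow : ∀ k, (m ^ k) 0 0 = m 0 0 ^ k := by
    intro k
    induction k with
    | zero => simp
    | succ k ih =>
      rw [pow_succ', pow_succ', Matrix.mul_apply, Finset.sum_eq_single 0, ih]
      · intro x _ hx; rw [hrow x hx, zero_mul]
      · simp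
  obtain ⟨k, hk⟩ := ha
  have h0 : m 0 0 ^ k = 0 := by rw [← hpow, hk, Matrix.zero_apply]
  have h1 : m 0 0 = 0 := eq_zero_of_pow_eq_zero h0
  rw [hm, Matrix.sub_apply, Matrix.smul_apply, Matrix.one_apply_eq, smul_eq_mul, mul_one, sub_eq_zero] at h1
  exact h1

/-! ### The model -/

section Model

variable {K : Type u} [Field K] [Fintype K] {S : ℕ} (a : Fin S → ℕ)

/-- The blocks: `a j` blocks of size `j + 1`. -/
abbrev Blk := (j : Fin S) × Fin (a j)

/-- The block sizes. -/
abbrev siz (p : Blk a) : ℕ := (p.1 : ℕ) + 1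

/-- The coordinates. -/
abbrev Idx := (p : Blk a) × Fin (siz a p)

variable (K) in
/-- The Jordan matrix. -/
def jm : Matrix (Idx a) (Idx a) K := Matrix.blockDiagonal' fun p => Cfsg.jordanBlock (siz a p) K

theorem jm_sub_one_apply (p p' : Idx a) :
    (jm K a - 1) p p' = if p.1 = p'.1 ∧ (p.2 : ℕ) = p'.2 + 1 then 1 else 0 := by
  obtain ⟨k, i⟩ := p
  obtain ⟨k', i'⟩ := p'
  rw [Matrix.sub_apply, jm]
  by_cases h : k = k'
  · subst h
    rw [Matrix.blockDiagonal'_apply_eq, Cfsg.jordanBlock, Matrix.of_apply]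
    by_cases h1 : (i : ℕ) = i'
    · rw [if_pos h1, Fin.ext h1, Matrix.one_apply_eq, if_neg (by omega), sub_self]
    · rw [if_neg h1, Matrix.one_apply_ne (by simp [Fin.ext_iff, h1]), sub_zero]
      simp
  · rw [Matrix.blockDiagonal'_apply_ne _ _ _ h, Matrix.one_apply_ne (by simp [h]), if_neg (fun hh => h hh.1),
      sub_zero]

variable (K) in
/-- Its coordinates. -/
def jmCoords : JordanType.Coords (Matrix.toLin' (jm K a - 1)) (siz a) where
  E := LinearEquiv.refl K _
  zero' x k h := by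
    show Matrix.mulVec (jm K a - 1) x _ = 0
    refine Finset.sum_eq_zero fun p _ => ?_
    show (jm K a - 1) _ p * x p = 0
    rw [jm_sub_one_apply, if_neg (fun hh => by simp at hh), zero_mul]
  succ' x k i h := by
    show Matrix.mulVec (jm K a - 1) x _ = x _
    rw [Matrix.mulVec, dotProduct, Finset.sum_eq_single ⟨k, ⟨i, by omega⟩⟩]
    · rw [jm_sub_one_apply, if_pos ⟨rfl, rfl⟩, one_mul]
    · rintro ⟨k', i'⟩ _ hne
      rw [jm_sub_one_apply, if_neg, zero_mul]
      rintro ⟨h1, h2⟩
      simp only at h1 h2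
      subst h1
      exact hne (congrArg (Sigma.mk k) (Fin.ext (by show (i' : ℕ) = i; omega)))
    · simp

theorem mul_blockDiagonal'_apply (g : Matrix (Idx a) (Idx a) K)
    (f : (p : Blk a) → Matrix (Fin (siz a p)) (Fin (siz a p)) K) (p : Idx a) (s : Blk a) (i : Fin (siz a s)) :
    (g * Matrix.blockDiagonal' f) p ⟨s, i⟩ = ∑ i', g p ⟨s, i'⟩ * f s i' i := by
  rw [Matrix.mul_apply, Fintype.sum_sigma, Finset.sum_eq_single s]
  · simp [Matrix.blockDiagonal'_apply_eq]
  · intro s' _ hs'
    exact Finset.sum_eq_zero fun i' _ => by rw [Matrix.blockDiagonal'_apply_ne _ _ _ hs', mul_zero]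
  · simp

theorem blockDiagonal'_mul_apply (g : Matrix (Idx a) (Idx a) K)
    (f : (p : Blk a) → Matrix (Fin (siz a p)) (Fin (siz a p)) K) (p : Idx a) (s : Blk a) (i : Fin (siz a s)) :
    (Matrix.blockDiagonal' f * g) ⟨s, i⟩ p = ∑ i', f s i i' * g ⟨s, i'⟩ p := by
  rw [Matrix.mul_apply, Fintype.sum_sigma, Finset.sum_eq_single s]
  · simp [Matrix.blockDiagonal'_apply_eq]
  · intro s' _ hs'
    exact Finset.sum_eq_zero fun i' _ => by rw [Matrix.blockDiagonal'_apply_ne _ _ _ (Ne.symm hs'), zero_mul]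
  · simp

/-- The coordinates of a block. -/
def emb (j : Fin S) (k : Fin (a j)) (i : Fin ((j : ℕ) + 1)) : Idx a := ⟨⟨j, k⟩, i⟩

variable {q : ℕ} (hK : Fintype.card K = q ^ 2)

/-- The data of the blocks: regular unitary unipotents and their Jordan bases. -/
structure Base (a : Fin S → ℕ) where
  r : (j : Fin S) → Matrix (Fin ((j : ℕ) + 1)) (Fin ((j : ℕ) + 1)) K
  P : (j : Fin S) → (Matrix (Fin ((j : ℕ) + 1)) (Fin ((j : ℕ) + 1)) K)ˣ
  st_r : ∀ j, stM hK (r j) * r j = 1
  regular : ∀ j, IsRegUnip (r j)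
  P_conj : ∀ j, (P j).val * Cfsg.jordanBlock ((j : ℕ) + 1) K = r j * (P j).val

theorem exists_base : Nonempty (Base hK a) := by
  have hex : ∀ j : Fin S, ∃ (r : Matrix (Fin ((j : ℕ) + 1)) (Fin ((j : ℕ) + 1)) K)
      (P : (Matrix (Fin ((j : ℕ) + 1)) (Fin ((j : ℕ) + 1)) K)ˣ), stM hK r * r = 1 ∧ IsRegUnip r ∧
        P.val * Cfsg.jordanBlock ((j : ℕ) + 1) K = r * P.val := by
    intro j
    obtain ⟨B, hB, -⟩ := RegularUnipotentSU52.exists_regUnip hK (n := (j : ℕ) + 1) (Nat.succ_pos _)
    have hJ : IsRegUnip (Cfsg.jordanBlock ((j : ℕ) + 1) K) :=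
      jordanBlock_eq_one_add_shift K _ ▸ RegularUnipotentMatrix.isRegUnip_one_add_shift (Nat.succ_pos _)
    obtain ⟨v, hv⟩ := RegularUnipotentMatrix.exists_cyclicVec hJ (Nat.succ_pos _)
    obtain ⟨v', hv'⟩ := RegularUnipotentMatrix.exists_cyclicVec hB (Nat.succ_pos _)
    obtain ⟨g, -, hg⟩ := RegularUnipotentMatrix.exists_conj hJ hB hv hv'
    exact ⟨_, g, (mem_GU_iff_stM hK _).1 B.2, hB, hg⟩
  choose r P h1 h2 h3 using hex
  exact ⟨⟨r, P, h1, h2, h3⟩⟩

variable {hK a} (B : Base hK a)

/-- The unitary element. -/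
def Base.U : Matrix (Idx a) (Idx a) K := Matrix.blockDiagonal' fun p => B.r p.1

/-- The change to the Jordan basis. -/
def Base.PP : (Matrix (Idx a) (Idx a) K)ˣ where
  val := Matrix.blockDiagonal' fun p : Blk a => (B.P p.1).val
  inv := Matrix.blockDiagonal' fun p : Blk a => ((B.P p.1)⁻¹).val
  val_inv := by
    rw [← Matrix.blockDiagonal'_mul]
    convert Matrix.blockDiagonal'_one using 2
    funext p
    exact (B.P p.1).mul_inv
  inv_val := by
    rw [← Matrix.blockDiagonal'_mul]
    convert Matrix.blockDiagonal'_one using 2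
    funext p
    exact (B.P p.1).inv_mul

theorem Base.PP_conj : B.PP.val * jm K a = B.U * B.PP.val := by
  show Matrix.blockDiagonal' (fun p : Blk a => (B.P p.1).val) *
      Matrix.blockDiagonal' (fun p : Blk a => Cfsg.jordanBlock (siz a p) K) =
    Matrix.blockDiagonal' (fun p : Blk a => B.r p.1) * Matrix.blockDiagonal' (fun p : Blk a => (B.P p.1).val)
  rw [← Matrix.blockDiagonal'_mul, ← Matrix.blockDiagonal'_mul]
  congr 1
  funext p
  exact B.P_conj p.1

theorem Base.st_U : stM hK B.U * B.U = 1 := by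
  rw [Base.U, stM, Matrix.blockDiagonal'_map _ _ (map_zero _), Matrix.blockDiagonal'_transpose,
    ← Matrix.blockDiagonal'_mul]
  convert Matrix.blockDiagonal'_one using 2
  funext p
  exact B.st_r p.1

/-- The centraliser algebra. -/
abbrev Base.L : Subalgebra K (Matrix (Idx a) (Idx a) K) := Subalgebra.centralizer K {B.U}

theorem Base.mem_L {g : Matrix (Idx a) (Idx a) K} : g ∈ B.L ↔ B.U * g = g * B.U := by
  simp [Base.L, Subalgebra.mem_centralizer_iff]

theorem Base.st_mem {g : Matrix (Idx a) (Idx a) K} (hg : g ∈ B.L) : stM hK g ∈ B.L := by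
  rw [B.mem_L] at hg ⊢
  have h := congrArg (stM hK) hg
  rw [stM_mul, stM_mul] at h
  have h1 : B.U * stM hK B.U = 1 := mul_eq_one_comm.1 B.st_U
  calc B.U * stM hK g = B.U * (stM hK g * stM hK B.U) * B.U := by
        rw [mul_assoc, mul_assoc, B.st_U, mul_one]
    _ = B.U * (stM hK B.U * stM hK g) * B.U := by rw [h]
    _ = stM hK g * B.U := by rw [← mul_assoc, h1, one_mul]

/-- The map to Jordan coordinates. -/
def Base.toJ (g : Matrix (Idx a) (Idx a) K) : Matrix (Idx a) (Idx a) K :=
  B.PP⁻¹.val * g * B.PP.val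

theorem Base.toJ_mul (g h : Matrix (Idx a) (Idx a) K) : B.toJ (g * h) = B.toJ g * B.toJ h := by
  simp only [Base.toJ, mul_assoc]
  congr 2
  rw [← mul_assoc B.PP.val, Units.mul_inv, one_mul]

theorem Base.toJ_comm {g : Matrix (Idx a) (Idx a) K} (hg : g ∈ B.L) :
    Commute (Matrix.toLin' (B.toJ g)) (Matrix.toLin' (jm K a - 1)) := by
  rw [B.mem_L] at hg
  have hj : jm K a = B.toJ B.U := by
    rw [Base.toJ, mul_assoc, ← B.PP_conj, ← mul_assoc, Units.inv_mul, one_mul]
  have h : Commute (B.toJ g) (jm K a) := by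
    show _ * _ = _ * _
    rw [hj, ← B.toJ_mul, ← B.toJ_mul, hg]
  exact (h.sub_right (Commute.one_right _)).map (Matrix.toLinAlgEquiv' (R := K) (n := Idx a))

/-- The endomorphism in Jordan coordinates. -/
def Base.endJ (g : B.L) :
    {x : Module.End K (Idx a → K) // Commute x (Matrix.toLin' (jm K a - 1))} :=
  ⟨Matrix.toLin' (B.toJ g), B.toJ_comm g.2⟩

/-- The blocks of size `j + 1`. -/
noncomputable def sizEquiv (a : Fin S → ℕ) (j : Fin S) : Fin (a j) ≃ {p : Blk a // siz a p = (j : ℕ) + 1} :=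
  Equiv.ofBijective (fun k => ⟨⟨j, k⟩, rfl⟩) ⟨fun k l h => by
      simpa using congrArg Subtype.val h, fun ⟨⟨j', k⟩, h⟩ => by
      obtain rfl : j' = j := Fin.ext (Nat.succ_injective h)
      exact ⟨k, rfl⟩⟩

/-- The quotient algebra. -/
abbrev Top (K : Type u) (a : Fin S → ℕ) := (j : Fin S) → Matrix (Fin (a j)) (Fin (a j)) K

/-- The leading coefficients. -/
def Base.topFun (g : B.L) : Top K a := fun j => Matrix.of fun k l => B.toJ g (emb a j k 0) (emb a j l 0)

theorem Base.topFun_eq (g : B.L) (j : Fin S) :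
    B.topFun g j = ((jmCoords K a).top ((j : ℕ) + 1) ((jmCoords K a).images (B.endJ g))).submatrix
      (sizEquiv a j) (sizEquiv a j) := by
  ext k l
  rw [Matrix.submatrix_apply, JordanType.Coords.top_apply]
  show _ = (jmCoords K a).co ⟨j, k⟩ 0 (Matrix.toLin' (B.toJ g) ((jmCoords K a).gen ⟨j, l⟩))
  rw [(jmCoords K a).co_of_lt (show 0 < siz a ⟨j, k⟩ from Nat.succ_pos _), Matrix.toLin'_apply]
  show _ = Matrix.mulVec (B.toJ g) _ (emb a j k 0)
  rw [Matrix.mulVec, dotProduct, Finset.sum_eq_single (emb a j l 0)]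
  · show B.toJ g (emb a j k 0) (emb a j l 0) = B.toJ g (emb a j k 0) (emb a j l 0) *
      (if (⟨j, l⟩ : Blk a) = ⟨j, l⟩ ∧ (0 : ℕ) = 0 then (1 : K) else 0)
    rw [if_pos ⟨rfl, rfl⟩, mul_one]
  · rintro ⟨s, i⟩ _ hne
    show _ * (if s = (⟨j, l⟩ : Blk a) ∧ (i : ℕ) = 0 then (1 : K) else 0) = 0
    rw [if_neg, mul_zero]
    rintro ⟨rfl, h0⟩
    exact hne (congrArg (Sigma.mk _) (Fin.ext h0))
  · simp

theorem Base.endJ_mul (g h : B.L) :
    B.endJ (g * h) = ⟨(B.endJ g).1 * (B.endJ h).1, (B.endJ g).2.mul_left (B.endJ h).2⟩ :=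
  Subtype.ext (show Matrix.toLin' (B.toJ ((g : Matrix (Idx a) (Idx a) K) * (h : Matrix (Idx a) (Idx a) K))) =
      Matrix.toLin' (B.toJ g) * Matrix.toLin' (B.toJ h) by
    rw [B.toJ_mul, Matrix.toLin'_mul, Module.End.mul_eq_comp])

theorem Base.topFun_mul (g h : B.L) : B.topFun (g * h) = B.topFun g * B.topFun h := by
  classical
  funext j
  rw [Pi.mul_apply, B.topFun_eq, B.topFun_eq, B.topFun_eq, Matrix.submatrix_mul_equiv,
    ← JordanType.Coords.top_mul, B.endJ_mul]

/-- The leading coefficients as a ring map. -/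
def Base.top : B.L →+* Top K a where
  toFun := B.topFun
  map_one' := by
    funext j
    ext k l
    show B.toJ ((1 : B.L) : Matrix _ _ K) (emb a j k 0) (emb a j l 0) = _
    rw [Base.toJ, OneMemClass.coe_one, mul_one, Units.inv_mul, Pi.one_apply, Matrix.one_apply, Matrix.one_apply]
    refine if_congr ⟨fun h => ?_, fun h => h ▸ rfl⟩ rfl rfl
    have := congrArg Sigma.fst h
    simpa [emb] using this
  map_mul' := B.topFun_mul
  map_zero' := by
    funext j; ext k l
    show B.toJ ((0 : B.L) : Matrix _ _ K) _ _ = 0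
    simp [Base.toJ]
  map_add' g h := by
    funext j; ext k l
    show B.toJ ((g + h : B.L) : Matrix _ _ K) _ _ = B.toJ g _ _ + B.toJ h _ _
    simp [Base.toJ, mul_add, add_mul]

theorem Base.isUnit_coe_iff (g : B.L) : IsUnit (g : Matrix (Idx a) (Idx a) K) ↔ IsUnit g := by
  refine ⟨fun h => ?_, fun h => h.map B.L.val⟩
  have hinj : Function.Injective (fun b : B.L => g * b) := fun b b' e =>
    Subtype.ext (h.mul_left_cancel (congrArg Subtype.val e))
  obtain ⟨b, hb⟩ := (Finite.injective_iff_surjective.1 hinj) 1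
  exact IsUnit.of_mul_eq_one b hb

theorem Base.top_isUnit (g : B.L) : IsUnit g ↔ IsUnit (B.top g) := by
  classical
  have h0 : IsUnit g ↔ IsUnit (B.toJ g) := by
    rw [← B.isUnit_coe_iff, Base.toJ, Units.isUnit_mul_units, Units.isUnit_units_mul]
  have h1 : IsUnit (B.toJ g) ↔ IsUnit (B.endJ g).1 :=
    (isUnit_map_iff (Matrix.toLinAlgEquiv' (R := K) (n := Idx a)) (B.toJ g)).symm
  rw [h0, h1, (jmCoords K a).isUnit_iff (fun p => Nat.succ_pos _), Pi.isUnit_iff]
  have he : ∀ j : Fin S, IsUnit (B.top g j) ↔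
      IsUnit ((jmCoords K a).top ((j : ℕ) + 1) ((jmCoords K a).images (B.endJ g))) := fun j => by
    show IsUnit (B.topFun g j) ↔ _
    rw [B.topFun_eq, Matrix.isUnit_submatrix_equiv]
  refine ⟨fun h j => (he j).2 (h _), fun h i => ?_⟩
  by_cases hi : ∃ j : Fin S, (j : ℕ) + 1 = i
  · obtain ⟨j, rfl⟩ := hi
    exact (he j).1 (h j)
  · haveI : IsEmpty {p : Blk a // siz a p = i} := ⟨fun p => hi ⟨p.1.1, p.2⟩⟩
    exact isUnit_of_subsingleton _

theorem Base.top_surjective : Function.Surjective B.top := by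
  classical
  intro M
  let c : Blk a → Blk a → ℕ → K := fun l k i =>
    if h : i = 0 ∧ k.1 = l.1 then M l.1 (h.2 ▸ k.2) l.2 else 0
  let y : JordanType.Images (Matrix.toLin' (jm K a - 1)) (siz a) := fun l =>
    ⟨(jmCoords K a).vec (c l), (jmCoords K a).mem_ker_pow.2 fun k i hi => by
      rw [(jmCoords K a).co_vec _ (by omega)]
      exact dif_neg (by
        rintro ⟨rfl, h⟩
        have : siz a k = siz a l := by rw [siz, siz, h]
        omega)⟩
  let x := (jmCoords K a).commutantEquiv.symm y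
  set X := LinearMap.toMatrix' x.1 with hX
  have hXc : Commute X (jm K a) := by
    have h : Commute X (jm K a - 1) := by
      refine Matrix.toLinAlgEquiv'.injective ?_
      rw [map_mul, map_mul]
      show Matrix.toLin' X * _ = _ * Matrix.toLin' X
      rw [Matrix.toLin'_toMatrix']
      exact x.2
    simpa using h.add_right (Commute.one_right _)
  have hUP : B.U = B.PP.val * jm K a * B.PP⁻¹.val := by
    rw [B.PP_conj, mul_assoc, Units.mul_inv, mul_one]
  let g : B.L := ⟨B.PP.val * X * B.PP⁻¹.val, by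
    rw [B.mem_L, hUP]
    simp only [mul_assoc, Units.inv_mul_cancel_left]
    rw [← mul_assoc X (jm K a), hXc.eq, mul_assoc]⟩
  have hg : B.endJ g = x := Subtype.ext (by
    show Matrix.toLin' (B.toJ g) = x.1
    rw [Base.toJ]
    simp only [g, mul_assoc, Units.inv_mul_cancel_left, Units.inv_mul, mul_one]
    rw [hX, Matrix.toLin'_toMatrix'])
  refine ⟨g, funext fun j => ?_⟩
  show B.topFun g j = M j
  rw [B.topFun_eq, hg, show (jmCoords K a).images x = y from (jmCoords K a).commutantEquiv.apply_symm_apply y]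
  ext k l
  rw [Matrix.submatrix_apply, JordanType.Coords.top_apply]
  show (jmCoords K a).co ⟨j, k⟩ 0 ((jmCoords K a).vec (c ⟨j, l⟩)) = _
  rw [(jmCoords K a).co_vec _ (show 0 < siz a ⟨j, k⟩ from Nat.succ_pos _)]
  exact dif_pos ⟨rfl, rfl⟩

/-- A block of a matrix. -/
def blockOf (g : Matrix (Idx a) (Idx a) K) (j : Fin S) (k l : Fin (a j)) :
    Matrix (Fin ((j : ℕ) + 1)) (Fin ((j : ℕ) + 1)) K := g.submatrix (emb a j k) (emb a j l)

theorem Base.blockOf_comm {g : Matrix (Idx a) (Idx a) K} (hg : g ∈ B.L) (j : Fin S) (k l : Fin (a j)) :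
    Commute (blockOf g j k l) (B.r j) := by
  ext x y
  have h := congrFun (congrFun (B.mem_L.1 hg) ⟨⟨j, k⟩, x⟩) ⟨⟨j, l⟩, y⟩
  rw [Base.U, mul_blockDiagonal'_apply, blockDiagonal'_mul_apply] at h
  rw [Matrix.mul_apply, Matrix.mul_apply]
  exact h.symm

theorem Base.toJ_block (g : Matrix (Idx a) (Idx a) K) (j : Fin S) (k l : Fin (a j)) :
    blockOf (B.toJ g) j k l = ((B.P j)⁻¹).val * blockOf g j k l * (B.P j).val := by
  ext x y
  show ((Matrix.blockDiagonal' fun p : Blk a => ((B.P p.1)⁻¹).val) * g *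
    Matrix.blockDiagonal' fun p : Blk a => (B.P p.1).val) ⟨⟨j, k⟩, x⟩ ⟨⟨j, l⟩, y⟩ = _
  rw [mul_blockDiagonal'_apply, Matrix.mul_apply]
  refine Finset.sum_congr rfl fun i _ => ?_
  rw [blockDiagonal'_mul_apply, Matrix.mul_apply]
  rfl

theorem Base.toJ_corner {g : Matrix (Idx a) (Idx a) K} (hg : g ∈ B.L) (j : Fin S) (k l : Fin (a j))
    {c : K} (hc : IsNilpotent (blockOf g j k l - c • 1)) : B.toJ g (emb a j k 0) (emb a j l 0) = c := by
  show blockOf (B.toJ g) j k l 0 0 = c
  rw [B.toJ_block]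
  set P := B.P j
  refine corner_eq ?_ ?_
  · have h := B.blockOf_comm hg j k l
    have hJ : Cfsg.jordanBlock ((j : ℕ) + 1) K = (P⁻¹).val * B.r j * P.val := by
      rw [mul_assoc, ← B.P_conj, ← mul_assoc, Units.inv_mul, one_mul]
    show _ * _ = _ * _
    rw [hJ]
    simp only [mul_assoc, Units.mul_inv_cancel_left]
    rw [← mul_assoc (blockOf g j k l), h.eq, mul_assoc]
  · obtain ⟨m, hm⟩ := hc
    refine ⟨m, ?_⟩
    have : (P⁻¹).val * blockOf g j k l * P.val - c • 1 =
        (P⁻¹).val * (blockOf g j k l - c • 1) * P.val := by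
      simp [mul_sub, sub_mul]
    rw [this, Units.conj_pow' P, hm, mul_zero, zero_mul]

theorem Base.top_st (g : B.L) (j : Fin S) (k l : Fin (a j)) :
    B.topFun ⟨stM hK (g : Matrix _ _ K), B.st_mem g.2⟩ j k l = B.topFun g j l k ^ q := by
  obtain ⟨c, hc⟩ := RegularUnipotentSU52.exists_sub_scalar_nilpotent (B.regular j) (Nat.succ_pos _)
    (B.blockOf_comm g.2 j l k)
  show B.toJ _ (emb a j k 0) (emb a j l 0) = B.toJ g (emb a j l 0) (emb a j k 0) ^ q
  rw [B.toJ_corner g.2 j l k hc]
  refine B.toJ_corner (B.st_mem g.2) j k l ?_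
  obtain ⟨m, hm⟩ := hc
  refine ⟨m, ?_⟩
  have e : blockOf (stM hK (g : Matrix _ _ K)) j k l - c ^ q • 1 = stM hK (blockOf (g : Matrix _ _ K) j l k - c • 1) := by
    rw [stM_sub, stM_smul_one]
    rfl
  rw [e, ← stM_pow, hm]
  ext x y
  exact Unitary.zero_pow_q hK

theorem Base.counts :
    ∃ h : ℕ, Nat.card {g : Matrix (Idx a) (Idx a) K // stM hK g * g = 1 ∧ g * B.U = B.U * g} =
        h * ∏ j, Nat.card (Cfsg.GU (a j) K q) ∧
      Nat.card {g : Matrix (Idx a) (Idx a) K // IsUnit g ∧ g * B.U = B.U * g} =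
        h ^ 2 * ∏ j, Nat.card (GL (Fin (a j)) K) := by
  classical
  obtain ⟨θ, c, hθ, hc⟩ := exists_star_scalars hK
  let D : StarData B.L :=
    { st := fun g => ⟨stM hK g, B.st_mem g.2⟩
      st_add := fun g h => Subtype.ext (stM_add hK _ _)
      st_mul := fun g h => Subtype.ext (stM_mul hK _ _)
      st_st := fun g => Subtype.ext (stM_stM hK _)
      θ := algebraMap K B.L θ
      θ_comm := fun g => Algebra.commutes θ g
      θ_unit := by
        rw [show (⟨stM hK ((algebraMap K B.L θ : B.L) : Matrix _ _ K), B.st_mem (algebraMap K B.L θ).2⟩ : B.L) -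
            algebraMap K B.L θ = algebraMap K B.L (θ ^ q - θ) from Subtype.ext (by
              show stM hK (algebraMap K _ θ) - algebraMap K _ θ = algebraMap K _ (θ ^ q - θ)
              rw [map_sub, Algebra.algebraMap_eq_smul_one, Algebra.algebraMap_eq_smul_one, stM_smul_one])]
        exact (IsUnit.mk0 _ hθ).map _
      c := algebraMap K B.L c
      c_comm := fun g => Algebra.commutes c g
      c_trace := Subtype.ext (by
        show algebraMap K _ c + stM hK (algebraMap K _ c) = 1
        rw [Algebra.algebraMap_eq_smul_one, stM_smul_one, ← add_smul, hc, one_smul]) }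
  let E : StarData (Top K a) :=
    { st := fun M j => stM hK (M j)
      st_add := fun M N => funext fun j => stM_add hK _ _
      st_mul := fun M N => funext fun j => stM_mul hK _ _
      st_st := fun M => funext fun j => stM_stM hK _
      θ := algebraMap K _ θ
      θ_comm := fun g => Algebra.commutes θ g
      θ_unit := by
        rw [show (fun j => stM hK ((algebraMap K (Top K a) θ) j)) - algebraMap K (Top K a) θ =
            algebraMap K (Top K a) (θ ^ q - θ) from funext fun j => by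
              show stM hK (algebraMap K _ θ) - algebraMap K _ θ = algebraMap K _ (θ ^ q - θ)
              rw [map_sub, Algebra.algebraMap_eq_smul_one, Algebra.algebraMap_eq_smul_one, stM_smul_one]]
        exact (IsUnit.mk0 _ hθ).map _
      c := algebraMap K _ c
      c_comm := fun g => Algebra.commutes c g
      c_trace := funext fun j => by
        show algebraMap K _ c + stM hK (algebraMap K _ c) = 1
        rw [Algebra.algebraMap_eq_smul_one, stM_smul_one, ← add_smul, hc, one_smul] }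
  have hst : ∀ g : B.L, B.top (D.st g) = E.st (B.top g) := fun g =>
    funext fun j => by
      show B.topFun ⟨stM hK (g : Matrix (Idx a) (Idx a) K), B.st_mem g.2⟩ j = stM hK (B.topFun g j)
      ext k l
      rw [B.top_st g j k l, stM_apply]
  obtain ⟨h, h1, h2⟩ := D.card_unitary_of_quotient E B.top B.top_surjective hst B.top_isUnit
  refine ⟨h, ?_, ?_⟩
  · have e1 : Nat.card D.Unit' =
        Nat.card {g : Matrix (Idx a) (Idx a) K // stM hK g * g = 1 ∧ g * B.U = B.U * g} :=
      Nat.card_congr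
        { toFun := fun g => ⟨g.1, congrArg Subtype.val g.2, (B.mem_L.1 g.1.2).symm⟩
          invFun := fun g => ⟨⟨g.1, B.mem_L.2 g.2.2.symm⟩, Subtype.ext g.2.1⟩
          left_inv := fun g => rfl
          right_inv := fun g => rfl }
    have e2 : Nat.card E.Unit' = ∏ j, Nat.card (Cfsg.GU (a j) K q) := by
      rw [← Nat.card_pi]
      exact Nat.card_congr
        { toFun := fun g j => ⟨(IsUnit.of_mul_eq_one_right _ (congrFun g.2 j)).unit,
            (mem_GU_iff_stM hK _).2 (congrFun g.2 j)⟩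
          invFun := fun g => ⟨fun j => (g j).1.1, funext fun j => (mem_GU_iff_stM hK _).1 (g j).2⟩
          left_inv := fun g => rfl
          right_inv := fun g => funext fun j => Subtype.ext (Units.ext rfl) }
    rw [← e1, h1, e2]
  · have e1 : Nat.card {g : B.L // IsUnit g} =
        Nat.card {g : Matrix (Idx a) (Idx a) K // IsUnit g ∧ g * B.U = B.U * g} :=
      Nat.card_congr
        { toFun := fun g => ⟨g.1.1, (B.isUnit_coe_iff g.1).2 g.2, (B.mem_L.1 g.1.2).symm⟩
          invFun := fun g => ⟨⟨g.1, B.mem_L.2 g.2.2.symm⟩, (B.isUnit_coe_iff _).1 g.2.1⟩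
          left_inv := fun g => rfl
          right_inv := fun g => rfl }
    have e2 : Nat.card {g : Top K a // IsUnit g} = ∏ j, Nat.card (GL (Fin (a j)) K) := by
      rw [← Nat.card_pi]
      exact Nat.card_congr
        { toFun := fun g j => (Pi.isUnit_iff.1 g.2 j).unit
          invFun := fun g => ⟨fun j => (g j : Matrix _ _ K), Pi.isUnit_iff.2 fun j => (g j).isUnit⟩
          left_inv := fun g => rfl
          right_inv := fun g => funext fun j => Units.ext rfl }
    rw [← e1, h2, e2]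

end Model

end Cfsg.Agent.Lib.UnitaryCentralizer52
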