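/-
The order of the centraliser in the unitary group of a unipotent element.
-/
import Cfsg.Agent.Lib.UnitaryCentralizer52.Model
import Cfsg.Agent.Lib.JordanType.Conj
import Cfsg.Agent.S2581
import Cfsg.Agent.S2587

set_option autoImplicit false
set_option linter.unusedSectionVars false

namespace Cfsg.Agent.Lib.UnitaryCentralizer52

open Matrix

universe u

variable {K : Type u} [Field K] [Fintype K] {q n t : ℕ}

theorem exists_index {t : ℕ} (d : Fin t → ℕ) (hd : ∀ k, 1 ≤ d k) {S : ℕ} (hS : ∀ k, d k ≤ S) :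
    ∃ σ : Fin t ≃ Blk (fun j : Fin S => (Finset.univ.filter fun k => d k = (j : ℕ) + 1).card),
      ∀ k, siz _ (σ k) = d k := by
  classical
  refine JordanType.exists_equiv_index fun i => ?_
  by_cases hi : ∃ j : Fin S, (j : ℕ) + 1 = i
  · obtain ⟨j, rfl⟩ := hi
    rw [← Fintype.card_subtype (α := Blk _) (fun p => siz _ p = (j : ℕ) + 1),
      ← Fintype.card_congr (sizEquiv _ j), Fintype.card_fin]
  · rw [Finset.filter_eq_empty_iff.2, Finset.filter_eq_empty_iff.2, Finset.card_empty, Finset.card_empty]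
    · intro p _ h; exact hi ⟨p.1, h⟩
    · intro k _ h
      have h1 := hd k
      have h2 := hS k
      exact hi ⟨⟨i - 1, by omega⟩, show i - 1 + 1 = i by omega⟩

theorem jm_submatrix {t : ℕ} (d : Fin t → ℕ) {S : ℕ} {a : Fin S → ℕ} (σ : Fin t ≃ Blk a)
    (hσ : ∀ k, siz a (σ k) = d k) :
    ∃ τ : ((k : Fin t) × Fin (d k)) ≃ Idx a,
      (jm K a).submatrix τ τ = Cfsg.jordanTypeMatrix d K := by
  classical
  let τ : ((k : Fin t) × Fin (d k)) ≃ Idx a :=
    (Equiv.sigmaCongrRight fun k => finCongr (hσ k).symm).trans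
      (Equiv.sigmaCongrLeft (β := fun p => Fin (siz a p)) σ)
  refine ⟨τ, ?_⟩
  ext ⟨k, i⟩ ⟨k', i'⟩
  show jm K a ⟨σ k, Fin.cast (hσ k).symm i⟩ ⟨σ k', Fin.cast (hσ k').symm i'⟩ = _
  by_cases h : k = k'
  · subst h
    rw [jm, Cfsg.jordanTypeMatrix, Matrix.blockDiagonal'_apply_eq, Matrix.blockDiagonal'_apply_eq,
      Cfsg.jordanBlock, Cfsg.jordanBlock, Matrix.of_apply, Matrix.of_apply]
    rfl
  · rw [jm, Cfsg.jordanTypeMatrix, Matrix.blockDiagonal'_apply_ne _ _ _ (σ.injective.ne h),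
      Matrix.blockDiagonal'_apply_ne _ _ _ h]

theorem card_GU_int (hK : Fintype.card K = q ^ 2) (m : ℕ) :
    (Nat.card (Cfsg.GU m K q) : ℤ) =
      (q : ℤ) ^ (m * (m - 1) / 2) * ∏ j : Fin m, ((q : ℤ) ^ ((j : ℕ) + 1) - (-1) ^ ((j : ℕ) + 1)) := by
  rw [Unitary.card_GU hK, Nat.cast_mul, Nat.cast_pow, Nat.cast_prod,
    ← Fin.prod_univ_eq_prod_range (fun i => ((if Even i then q ^ (i + 1) + 1 else q ^ (i + 1) - 1 : ℕ) : ℤ))]
  congr 1
  refine Finset.prod_congr rfl fun j _ => ?_
  split_ifs with h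
  · rw [(Even.add_one h).neg_one_pow]; push_cast; ring
  · rw [((Nat.not_even_iff_odd.1 h).add_one).neg_one_pow,
      Nat.cast_sub (Nat.one_le_pow _ _ (Nat.pos_of_ne_zero (Unitary.q_ne_zero hK)))]
    push_cast; ring

theorem card_centralizer_GU (hK : Fintype.card K = q ^ 2) (d : Fin t → ℕ) (hd : ∀ k, 1 ≤ d k)
    (e : ((k : Fin t) × Fin (d k)) ≃ Fin n) (u : Cfsg.GU n K q)
    (hu : IsConj (Matrix.reindex e e (Cfsg.jordanTypeMatrix d K)) ((u : GL (Fin n) K) : Matrix (Fin n) (Fin n) K)) :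
    (Nat.card (Subgroup.centralizer ({u} : Set (Cfsg.GU n K q))) : ℤ) =
      (q : ℤ) ^ (2 * (∑ i ∈ Finset.range (Finset.univ.sup d + 1), ∑ j ∈ Finset.range (Finset.univ.sup d + 1), if i < j then i * (Finset.univ.filter (fun k : Fin t => d k = i)).card * (Finset.univ.filter (fun k : Fin t => d k = j)).card else 0) + ∑ i ∈ Finset.range (Finset.univ.sup d + 1), (i - 1) * (Finset.univ.filter (fun k : Fin t => d k = i)).card ^ 2) * ∏ i ∈ Finset.range (Finset.univ.sup d + 1), ((q : ℤ) ^ ((Finset.univ.filter (fun k : Fin t => d k = i)).card * ((Finset.univ.filter (fun k : Fin t => d k = i)).card - 1) / 2) * ∏ j : Fin (Finset.univ.filter (fun k : Fin t => d k = i)).card, ((q : ℤ) ^ ((j : ℕ) + 1) - (-1) ^ ((j : ℕ) + 1))) := by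
  classical
  set S := Finset.univ.sup d with hSdef
  have hS : ∀ k, d k ≤ S := fun k => Finset.le_sup (Finset.mem_univ k)
  set c : ℕ → ℕ := fun i => (Finset.univ.filter (fun k : Fin t => d k = i)).card with hc
  let a : Fin S → ℕ := fun j => c ((j : ℕ) + 1)
  obtain ⟨σ, hσ⟩ : ∃ σ : Fin t ≃ Blk a, ∀ k, siz a (σ k) = d k := exists_index d hd hS
  obtain ⟨τ, hτ⟩ := jm_submatrix (K := K) d σ hσ
  obtain ⟨B⟩ := exists_base a hK
  set E : Idx a ≃ Fin n := τ.symm.trans e with hE
  -- the model element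
  set U₀ := B.U.submatrix E.symm E.symm with hU₀
  have hst0 : stM hK U₀ * U₀ = 1 := by
    rw [hU₀, stM_submatrix, Matrix.submatrix_mul_equiv, B.st_U, Matrix.submatrix_one_equiv]
  let g₀ : GL (Fin n) K := (IsUnit.of_mul_eq_one_right _ hst0).unit
  let u₀ : Cfsg.GU n K q := ⟨g₀, (mem_GU_iff_stM hK g₀).2 hst0⟩
  have hJ : (jm K a).submatrix E.symm E.symm = Matrix.reindex e e (Cfsg.jordanTypeMatrix d K) := by
    rw [← hτ]; rfl
  have hconj : IsConj u₀ u := by
    refine (Cfsg.Agent.S2587.result hK u₀ u).2 ?_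
    have h1 : IsConj ((jm K a).submatrix E.symm E.symm) U₀ := by
      refine ⟨(B.PP.isUnit.map (Matrix.reindexAlgEquiv K K E)).unit, ?_⟩
      show (B.PP.val.submatrix E.symm E.symm) * (jm K a).submatrix E.symm E.symm =
        B.U.submatrix E.symm E.symm * B.PP.val.submatrix E.symm E.symm
      rw [Matrix.submatrix_mul_equiv, Matrix.submatrix_mul_equiv, B.PP_conj]
    rw [hJ] at h1
    obtain ⟨w, hw⟩ := h1.symm.trans hu
    exact isConj_iff.2 ⟨w, mul_inv_eq_iff_eq_mul.2 (Units.ext hw.eq)⟩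
  obtain ⟨h, h1, h2⟩ := B.counts
  -- the two centralisers
  have hC : Nat.card (Subgroup.centralizer ({u} : Set (Cfsg.GU n K q))) =
      Nat.card {g : Matrix (Idx a) (Idx a) K // stM hK g * g = 1 ∧ g * B.U = B.U * g} := by
    obtain ⟨w, hw⟩ := isConj_iff.1 hconj
    let e1 : Subgroup.centralizer ({u} : Set (Cfsg.GU n K q)) ≃ Subgroup.centralizer ({u₀} : Set (Cfsg.GU n K q)) :=
      (MulAut.conj w).symm.toEquiv.subtypeEquiv fun x => by
        rw [Subgroup.mem_centralizer_singleton_iff, Subgroup.mem_centralizer_singleton_iff, ← hw]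
        show _ ↔ w⁻¹ * x * w * u₀ = u₀ * (w⁻¹ * x * w)
        constructor
        · intro hx
          calc w⁻¹ * x * w * u₀ = w⁻¹ * (x * (w * u₀ * w⁻¹)) * w := by group
            _ = _ := by rw [hx]; group
        · intro hx
          calc x * (w * u₀ * w⁻¹) = w * (w⁻¹ * x * w * u₀) * w⁻¹ := by group
            _ = _ := by rw [hx]; group
    rw [Nat.card_congr e1]
    refine Nat.card_congr
      { toFun := fun x => ⟨((x.1 : GL (Fin n) K) : Matrix (Fin n) (Fin n) K).submatrix E E, ?_, ?_⟩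
        invFun := fun g => ⟨⟨(IsUnit.of_mul_eq_one_right (stM hK (g.1.submatrix E.symm E.symm))
            (show stM hK (g.1.submatrix E.symm E.symm) * g.1.submatrix E.symm E.symm = 1 by
              rw [stM_submatrix, Matrix.submatrix_mul_equiv, g.2.1, Matrix.submatrix_one_equiv])).unit, ?_⟩, ?_⟩
        left_inv := fun x => ?_
        right_inv := fun g => ?_ }
    · rw [stM_submatrix, Matrix.submatrix_mul_equiv, (mem_GU_iff_stM hK _).1 x.1.2, Matrix.submatrix_one_equiv]
    · have hx : ((x.1 : GL (Fin n) K) : Matrix (Fin n) (Fin n) K) * U₀ = U₀ * ((x.1 : GL (Fin n) K) : Matrix (Fin n) (Fin n) K) :=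
        congrArg (fun z : Cfsg.GU n K q => ((z : GL (Fin n) K) : Matrix (Fin n) (Fin n) K))
          (Subgroup.mem_centralizer_singleton_iff.1 x.2)
      have hU : B.U = U₀.submatrix E E := by
        rw [hU₀, Matrix.submatrix_submatrix, Equiv.symm_comp_self, Matrix.submatrix_id_id]
      rw [hU, Matrix.submatrix_mul_equiv, Matrix.submatrix_mul_equiv, hx]
    · exact (mem_GU_iff_stM hK _).2 (show stM hK (g.1.submatrix E.symm E.symm) * g.1.submatrix E.symm E.symm = 1 by
        rw [stM_submatrix, Matrix.submatrix_mul_equiv, g.2.1, Matrix.submatrix_one_equiv])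
    · rw [Subgroup.mem_centralizer_singleton_iff]
      refine Subtype.ext (Units.ext ?_)
      show g.1.submatrix E.symm E.symm * U₀ = U₀ * g.1.submatrix E.symm E.symm
      rw [hU₀, Matrix.submatrix_mul_equiv, Matrix.submatrix_mul_equiv, g.2.2]
    · refine Subtype.ext (Subtype.ext (Units.ext ?_))
      show (((x.1 : GL (Fin n) K) : Matrix (Fin n) (Fin n) K).submatrix E E).submatrix E.symm E.symm = _
      rw [Matrix.submatrix_submatrix, Equiv.self_comp_symm, Matrix.submatrix_id_id]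
    · refine Subtype.ext ?_
      show (g.1.submatrix E.symm E.symm).submatrix E E = g.1
      rw [Matrix.submatrix_submatrix, Equiv.symm_comp_self, Matrix.submatrix_id_id]
  have hL : Nat.card {g : Matrix (Idx a) (Idx a) K // IsUnit g ∧ g * B.U = B.U * g} =
      Nat.card {g : GL ((k : Fin t) × Fin (d k)) K // (g : Matrix _ _ K) * Cfsg.jordanTypeMatrix d K =
        Cfsg.jordanTypeMatrix d K * (g : Matrix _ _ K)} := by
    have hjU : jm K a = B.PP⁻¹.val * B.U * B.PP.val := by
      rw [mul_assoc, ← B.PP_conj, Units.inv_mul_cancel_left]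
    let e2 : {g : Matrix (Idx a) (Idx a) K // IsUnit g ∧ g * B.U = B.U * g} ≃
        {g : Matrix (Idx a) (Idx a) K // IsUnit g ∧ g * jm K a = jm K a * g} :=
      { toFun := fun g => ⟨B.toJ g.1, by
            rw [Base.toJ, Units.isUnit_mul_units, Units.isUnit_units_mul]; exact g.2.1, by
            rw [show jm K a = B.toJ B.U from hjU, ← B.toJ_mul, ← B.toJ_mul, g.2.2]⟩
        invFun := fun g => ⟨B.PP.val * g.1 * B.PP⁻¹.val, by
            rw [Units.isUnit_mul_units, Units.isUnit_units_mul]; exact g.2.1, by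
            have hU : B.U = B.PP.val * jm K a * B.PP⁻¹.val := by
              rw [B.PP_conj, mul_assoc, Units.mul_inv, mul_one]
            rw [hU]
            simp only [mul_assoc, Units.inv_mul_cancel_left]
            rw [← mul_assoc g.1, g.2.2, mul_assoc]⟩
        left_inv := fun g => Subtype.ext (by
          simp only [Base.toJ, mul_assoc, Units.mul_inv_cancel_left, Units.mul_inv, mul_one])
        right_inv := fun g => Subtype.ext (by
          simp only [Base.toJ, mul_assoc, Units.inv_mul_cancel_left, Units.inv_mul, mul_one]) }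
    rw [Nat.card_congr e2]
    refine Nat.card_congr
      { toFun := fun g => ⟨(g.2.1.map (Matrix.reindexAlgEquiv K K τ.symm)).unit, ?_⟩
        invFun := fun g => ⟨(g.1 : Matrix _ _ K).submatrix τ.symm τ.symm, ?_, ?_⟩
        left_inv := fun g => ?_
        right_inv := fun g => ?_ }
    · show g.1.submatrix τ τ * _ = _ * g.1.submatrix τ τ
      rw [← hτ, Matrix.submatrix_mul_equiv, Matrix.submatrix_mul_equiv, g.2.2]
    · exact g.1.isUnit.map (Matrix.reindexAlgEquiv K K τ)
    · have e3 : jm K a = (Cfsg.jordanTypeMatrix d K).submatrix τ.symm τ.symm := by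
        rw [← hτ, Matrix.submatrix_submatrix, Equiv.self_comp_symm, Matrix.submatrix_id_id]
      rw [e3, Matrix.submatrix_mul_equiv, Matrix.submatrix_mul_equiv, g.2]
    · refine Subtype.ext ?_
      show (g.1.submatrix τ τ).submatrix τ.symm τ.symm = g.1
      rw [Matrix.submatrix_submatrix, Equiv.self_comp_symm, Matrix.submatrix_id_id]
    · refine Subtype.ext (Units.ext ?_)
      show ((g.1 : Matrix _ _ K).submatrix τ.symm τ.symm).submatrix τ τ = _
      rw [Matrix.submatrix_submatrix, Equiv.symm_comp_self, Matrix.submatrix_id_id]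
  rw [hL, Cfsg.Agent.S2581.result (F := K) hK d hd] at h2
  have hc0 : c 0 = 0 := Finset.card_eq_zero.2 (Finset.filter_eq_empty_iff.2 fun k _ => Nat.one_le_iff_ne_zero.1 (hd k))
  set γ := 2 * (∑ i ∈ Finset.range (S + 1), ∑ j ∈ Finset.range (S + 1), if i < j then i * c i * c j else 0) +
    ∑ i ∈ Finset.range (S + 1), (i - 1) * c i ^ 2 with hγ
  have hGL : ∏ i ∈ Finset.range (S + 1), ∏ j : Fin (c i), ((q ^ 2) ^ c i - (q ^ 2) ^ (j : ℕ)) =
      ∏ j : Fin S, Nat.card (GL (Fin (a j)) K) := by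
    rw [Finset.prod_range_succ', hc0, Finset.univ_eq_empty (α := Fin 0), Finset.prod_empty, mul_one,
      ← Fin.prod_univ_eq_prod_range]
    exact Finset.prod_congr rfl fun j _ => by rw [Matrix.card_GL_field, hK]
  have hh : h = q ^ γ := by
    change (q ^ 2) ^ γ * ∏ i ∈ Finset.range (S + 1), ∏ j : Fin (c i), ((q ^ 2) ^ c i - (q ^ 2) ^ (j : ℕ)) = _ at h2
    rw [hGL, ← pow_mul, mul_comm 2, pow_mul] at h2
    exact (Nat.pow_left_injective two_ne_zero (Nat.eq_of_mul_eq_mul_right
      (Finset.prod_pos fun j _ => Nat.card_pos) h2)).symm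
  show _ = (q : ℤ) ^ γ * ∏ i ∈ Finset.range (S + 1),
    ((q : ℤ) ^ (c i * (c i - 1) / 2) * ∏ j : Fin (c i), ((q : ℤ) ^ ((j : ℕ) + 1) - (-1) ^ ((j : ℕ) + 1)))
  rw [hC, h1, hh, Nat.cast_mul, Nat.cast_pow, Nat.cast_prod]
  congr 1
  rw [Finset.prod_range_succ', hc0, Finset.univ_eq_empty (α := Fin 0), Finset.prod_empty, mul_one,
    ← Fin.prod_univ_eq_prod_range]
  simp only [zero_mul, Nat.zero_div, pow_zero, mul_one]
  exact Finset.prod_congr rfl fun j _ => card_GU_int hK _

end Cfsg.Agent.Lib.UnitaryCentralizer52
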